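import Groth.Agent.PDLib.Fibre
import Groth.Agent.CommAlgDim.GlobalDim

/-! Flat resolutions of bounded length. -/

set_option autoImplicit false
universe u

open CategoryTheory TensorProduct TorDimLib

namespace DiagLib

/-- There is a flat resolution of length at most `n`. -/
def FD (P : Type u) [CommRing P] : ℕ → ∀ (M : Type u) [AddCommGroup M] [Module P M], Prop
  | 0, M, _, _ => Module.Flat P M
  | n + 1, M, _, _ => ∃ (F : Type u) (_ : AddCommGroup F) (_ : Module P F) (g : F →ₗ[P] M),
      Module.Flat P F ∧ Function.Surjective g ∧ FD P n (LinearMap.ker g)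

section

variable {P : Type u} [CommRing P]

theorem FD.of_equiv : ∀ (n : ℕ) {M N : Type u} [AddCommGroup M] [Module P M] [AddCommGroup N] [Module P N]
    (_ : M ≃ₗ[P] N), FD P n M → FD P n N
  | 0, M, N, _, _, _, _, e, h =>
    haveI : Module.Flat P M := h
    Module.Flat.of_linearEquiv e.symm
  | n + 1, M, N, _, _, _, _, e, h => by
    obtain ⟨F, _, _, g, hF, hg, hk⟩ := h
    exact ⟨F, _, _, e.toLinearMap ∘ₗ g, hF, e.surjective.comp hg,
      FD.of_equiv n (LinearEquiv.ofEq _ _ (LinearEquiv.ker_comp e g).symm) hk⟩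

theorem exactAtSucc_of_FD : ∀ (n : ℕ) {M : Type u} [AddCommGroup M] [Module P M], FD P n M →
    ∀ (N : ModuleCat.{u} P) (Q : ProjectiveResolution N) (p : ℕ), n ≤ p → ExactAtSucc M Q p
  | 0, M, _, _, h, N, Q, p, _ =>
    haveI : Module.Flat P M := h
    PDLib.exactAtSucc_of_flat M Q p
  | n + 1, M, _, _, h, N, Q, p, hp => by
    obtain ⟨F, _, _, g, hF, hg, hk⟩ := h
    obtain ⟨p, rfl⟩ : ∃ q, p = q + 1 := ⟨p - 1, by omega⟩
    exact PDLib.exactAtSucc_unshift (LinearMap.ker g).subtype g Subtype.val_injective
      (LinearMap.exact_subtype_ker_map g) hg Q p (exactAtSucc_of_FD n hk N Q p (by omega))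

theorem FD_of_exactAtSucc : ∀ (n : ℕ) {M : Type u} [AddCommGroup M] [Module P M],
    (∀ (N : ModuleCat.{u} P) (Q : ProjectiveResolution N) (p : ℕ), n ≤ p → ExactAtSucc M Q p) → FD P n M
  | 0, M, _, _, h => flat_of_exactAtSucc fun N _ _ Q => h _ Q 0 le_rfl
  | n + 1, M, _, _, h => by
    let g : (M →₀ P) →ₗ[P] M := Finsupp.linearCombination P _root_.id
    have hg : Function.Surjective g := fun m => ⟨Finsupp.single m 1, by simp [g]⟩
    exact ⟨M →₀ P, _, _, g, inferInstance, hg, FD_of_exactAtSucc n fun N Q p hp =>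
      exactAtSucc_shift (LinearMap.ker g).subtype g Subtype.val_injective (LinearMap.exact_subtype_ker_map g) hg Q p
        (h N Q (p + 1) (by omega))⟩

theorem exists_FD_of_hasFiniteTorDim {M : Type u} [AddCommGroup M] [Module P M]
    (h : DRing.HasFiniteTorDim P M) : ∃ n, FD P n M := by
  obtain ⟨n, hn⟩ := h
  exact ⟨n, FD_of_exactAtSucc n fun N Q p hp =>
    exactAtSucc_of_subsingleton_tor (N := N) Q p (hn N (p + 1) (by omega))⟩

theorem pdlt_of_exactAtSucc [IsNoetherianRing P] : ∀ (n : ℕ) {M : Type u} [AddCommGroup M] [Module P M]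
    [Module.Finite P M], (∀ (N : ModuleCat.{u} P) (Q : ProjectiveResolution N) (p : ℕ), n ≤ p → ExactAtSucc M Q p) →
      CommAlgDim.PDLT P M (n + 1)
  | 0, M, _, _, _, h => by
    haveI : Module.Flat P M := flat_of_exactAtSucc fun N _ _ Q => h _ Q 0 le_rfl
    haveI : Module.FinitePresentation P M := Module.finitePresentation_of_finite P M
    exact CommAlgDim.pdlt_one_iff.2 Module.Flat.projective_of_finitePresentation
  | n + 1, M, _, _, _, h => by
    obtain ⟨k, g, hg⟩ := Module.Finite.exists_fin' P M
    exact (CommAlgDim.pdlt_ker_iff g hg n).2 (pdlt_of_exactAtSucc n fun N Q p hp =>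
      exactAtSucc_shift (LinearMap.ker g).subtype g Subtype.val_injective (LinearMap.exact_subtype_ker_map g) hg Q p
        (h N Q (p + 1) (by omega)))

/-- A finite module with a bounded flat resolution over a Noetherian ring. -/
theorem FD.pdlt [IsNoetherianRing P] {n : ℕ} {M : Type u} [AddCommGroup M] [Module P M] [Module.Finite P M]
    (h : FD P n M) : CommAlgDim.PDLT P M (n + 1) :=
  pdlt_of_exactAtSucc n (exactAtSucc_of_FD n h)

/-- Restriction along a flat map. -/
theorem FD.restrict {C : Type u} [CommRing C] [Algebra C P] [Module.Flat C P] :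
    ∀ (n : ℕ) {M : Type u} [AddCommGroup M] [Module P M] [Module C M] [IsScalarTower C P M],
      FD P n M → FD C n M
  | 0, M, _, _, _, _, h =>
    haveI : Module.Flat P M := h
    Module.Flat.trans C P M
  | n + 1, M, _, _, _, _, h => by
    obtain ⟨F, _, _, g, hF, hg, hk⟩ := h
    letI : Module C F := Module.compHom F (algebraMap C P)
    haveI : IsScalarTower C P F := IsScalarTower.of_algebraMap_smul fun _ _ => rfl
    let e : LinearMap.ker g ≃ₗ[C] LinearMap.ker (g.restrictScalars C) :=
      { toFun := fun x => ⟨x.1, x.2⟩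
        invFun := fun x => ⟨x.1, x.2⟩
        left_inv := fun x => rfl
        right_inv := fun x => rfl
        map_add' := fun x y => rfl
        map_smul' := fun c x => rfl }
    exact ⟨F, _, _, g.restrictScalars C, Module.Flat.trans C P F, hg, FD.of_equiv n e (FD.restrict n hk)⟩

end

/-- Base change of a bounded flat resolution of a module flat over the base. -/
theorem FD.baseChange {A P : Type u} [CommRing A] [CommRing P] [Algebra A P] [Module.Flat A P] (L : Type u)
    [CommRing L] [Algebra A L] : ∀ (n : ℕ) {M : Type u} [AddCommGroup M] [Module P M] [Module A M]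
    [IsScalarTower A P M] [Module.Flat A M], FD P n M → FD (P ⊗[A] L) n ((P ⊗[A] L) ⊗[P] M)
  | 0, M, _, _, _, _, _, h =>
    haveI : Module.Flat P M := h
    (inferInstance : Module.Flat (P ⊗[A] L) ((P ⊗[A] L) ⊗[P] M))
  | n + 1, M, _, _, _, _, _, h => by
    obtain ⟨F, _, _, g, hF, hg, hk⟩ := h
    letI : Module A F := Module.compHom F (algebraMap A P)
    haveI : IsScalarTower A P F := IsScalarTower.of_algebraMap_smul fun _ _ => rfl
    haveI : Module.Flat A F := Module.Flat.trans A P F
    haveI : Module.Flat A (LinearMap.ker g) := PDLib.flat_ker (g.restrictScalars A) hg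
    have hex := LinearMap.exact_subtype_ker_map g
    have hinj : Function.Injective ((LinearMap.ker g).subtype.baseChange (P ⊗[A] L)) :=
      PDLib.baseChange_injective L _ (PDLib.lTensor_injective_of_flat _
        ((LinearMap.ker g).subtype.restrictScalars A) (g.restrictScalars A) Subtype.val_injective hex hg)
    have hex' : Function.Exact ((LinearMap.ker g).subtype.baseChange (P ⊗[A] L)) (g.baseChange (P ⊗[A] L)) :=
      lTensor_exact _ hex hg
    refine ⟨(P ⊗[A] L) ⊗[P] F, _, _, g.baseChange (P ⊗[A] L), inferInstance, LinearMap.lTensor_surjective _ hg,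
      FD.of_equiv n ?_ (FD.baseChange L n hk)⟩
    exact (LinearEquiv.ofInjective _ hinj) ≪≫ₗ LinearEquiv.ofEq _ _ (LinearMap.exact_iff.1 hex').symm

end DiagLib
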