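import Groth.Agent.DiagLib.FD
import Groth.Agent.CommAlgDim.RegularRing

/-! A flat algebra with diagonal of finite tor dimension has regular fibres. -/

set_option autoImplicit false
set_option maxHeartbeats 1000000
universe u

open TensorProduct IsLocalRing

namespace DiagLib

/-- The residue field of a maximal ideal as a localized module. -/
theorem pdlt_residueField {T : Type u} [CommRing T] [IsNoetherianRing T] (m : Ideal T) [m.IsMaximal] {n : ℕ}
    (h : CommAlgDim.PDLT T (T ⧸ m) (n + 1)) : IsRegularLocalRing (Localization.AtPrime m) := by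
  let S := Localization.AtPrime m
  let e := IsLocalization.AtPrime.equivQuotMaximalIdeal m S
  let f : (T ⧸ m) →ₗ[T] (S ⧸ maximalIdeal S) :=
    { toFun := e
      map_add' := map_add e
      map_smul' := fun c x => by
        obtain ⟨x, rfl⟩ := Ideal.Quotient.mk_surjective x
        rw [RingHom.id_apply, Algebra.smul_def, Algebra.smul_def, map_mul]
        rfl }
  haveI : IsLocalizedModule m.primeCompl f :=
    { map_units := fun t => by
        rw [Module.End.isUnit_iff]
        obtain ⟨c, hc⟩ := (IsLocalization.map_units S t).exists_left_inv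
        refine ⟨fun a b h => ?_, fun a => ⟨c • a, ?_⟩⟩
        · have h' : algebraMap T S t • a = algebraMap T S t • b := by
            rw [algebraMap_smul, algebraMap_smul]; exact h
          rw [← one_smul S a, ← one_smul S b, ← hc, mul_smul, mul_smul, h']
        · show (t : T) • c • a = a
          rw [← algebraMap_smul S, smul_smul, mul_comm, hc, one_smul]
      surj := fun y => ⟨(e.symm y, 1), by
        rw [one_smul]; exact (e.apply_symm_apply y).symm⟩
      exists_of_eq := fun {x y} hxy => ⟨1, by rw [one_smul, one_smul]; exact e.injective hxy⟩ }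
  exact CommAlgDim.isRegularLocalRing_of_pdlt (CommAlgDim.PDLT.localization m.primeCompl f h)

/-- Transfer along a flat ring map. -/
theorem FD_transfer {T P' X L : Type u} [CommRing T] [CommRing P'] [Algebra T P'] [Module.Flat T P']
    [AddCommGroup X] [Module P' X] [AddCommGroup L] [Module T L] (n : ℕ) (h : FD P' n X) (E : X ≃+ L)
    (hE : ∀ (c : T) (z : X), E (algebraMap T P' c • z) = c • E z) : FD T n L := by
  letI : Module T X := Module.compHom X (algebraMap T P')
  haveI : IsScalarTower T P' X := IsScalarTower.of_algebraMap_smul fun _ _ => rfl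
  exact FD.of_equiv n { E with map_smul' := hE } (FD.restrict (C := T) n h)

set_option synthInstance.maxHeartbeats 200000 in
/-- A quotient of a field-valued fibre has a bounded flat resolution. -/
theorem FD_quotient {A B : Type u} [CommRing A] [CommRing B] [Algebra A B] [Module.Flat A B]
    [Algebra (B ⊗[A] B) B] (hmul : ∀ x y : B, algebraMap (B ⊗[A] B) B (x ⊗ₜ[A] y) = x * y)
    {n : ℕ} (h : FD (B ⊗[A] B) n B) (K : Type u) [Field K] [Algebra A K] (L : Type u) [CommRing L] [Algebra A L]
    [Algebra B L] [IsScalarTower A B L] [Algebra (K ⊗[A] B) L] (gK : K →ₐ[A] L)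
    (hπ : ∀ (k : K) (b : B), algebraMap (K ⊗[A] B) L (k ⊗ₜ b) = gK k * algebraMap B L b) :
    FD (K ⊗[A] B) n L := by
  haveI : IsScalarTower B (B ⊗[A] B) B := IsScalarTower.of_algebraMap_eq fun b => by
    rw [Algebra.TensorProduct.algebraMap_apply, Algebra.algebraMap_self, RingHom.id_apply, hmul, mul_one]
  have hbc := FD.baseChange (A := B) (P := B ⊗[A] B) L n h
  let ψ : L ⊗[A] B →ₐ[A] (B ⊗[A] B) ⊗[B] L := Algebra.TensorProduct.lift
    ((Algebra.TensorProduct.includeRight : L →ₐ[B] (B ⊗[A] B) ⊗[B] L).restrictScalars A)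
    (((Algebra.TensorProduct.includeLeft : (B ⊗[A] B) →ₐ[B] (B ⊗[A] B) ⊗[B] L).restrictScalars A).comp
      Algebra.TensorProduct.includeRight)
    (fun _ _ => Commute.all _ _)
  let φ : (B ⊗[A] B) ⊗[B] L →ₐ[B] L ⊗[A] B := Algebra.TensorProduct.lift
    (Algebra.TensorProduct.map (Algebra.ofId B L) (AlgHom.id A B))
    (Algebra.TensorProduct.includeLeft : L →ₐ[B] L ⊗[A] B)
    (fun _ _ => Commute.all _ _)
  have hψ : ∀ l b, ψ (l ⊗ₜ b) = ((1 : B) ⊗ₜ[A] b) ⊗ₜ[B] l := fun l b => by
    simp [ψ, Algebra.TensorProduct.one_def]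
  have hφ : ∀ x y l, φ ((x ⊗ₜ[A] y) ⊗ₜ[B] l) = (algebraMap B L x * l) ⊗ₜ[A] y := fun x y l => by
    simp [φ]
  have hbij : Function.Bijective ψ := by
    refine ⟨Function.LeftInverse.injective (g := φ) fun z => ?_, Function.RightInverse.surjective (g := φ) fun z => ?_⟩
    · induction z using TensorProduct.induction_on with
      | zero => simp
      | add a b ha hb => rw [map_add, map_add, ha, hb]
      | tmul l b => rw [hψ, hφ, map_one, one_mul]
    · induction z using TensorProduct.induction_on with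
      | zero => simp
      | add a b ha hb => rw [map_add, map_add, ha, hb]
      | tmul p l =>
        induction p using TensorProduct.induction_on with
        | zero => simp
        | add a b ha hb => rw [TensorProduct.add_tmul, map_add, map_add, ha, hb]
        | tmul x y =>
          rw [hφ, hψ, ← Algebra.smul_def, ← TensorProduct.smul_tmul, TensorProduct.smul_tmul', smul_eq_mul, mul_one]
  let j : K ⊗[A] B →ₐ[A] L ⊗[A] B := Algebra.TensorProduct.map gK (AlgHom.id A B)
  have hj : j.toRingHom.Flat :=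
    RingHom.Flat.tensorProductMap (S := A) (f := gK) (g := AlgHom.id A B)
      (RingHom.Flat.of_isField (Field.toIsField K) gK.toRingHom) (RingHom.Flat.id B)
  let θ : K ⊗[A] B →+* (B ⊗[A] B) ⊗[B] L := ψ.toRingHom.comp j.toRingHom
  have hθ : ∀ k b, θ (k ⊗ₜ b) = ((1 : B) ⊗ₜ[A] b) ⊗ₜ[B] gK k := fun k b => by
    show ψ (j (k ⊗ₜ b)) = _
    rw [Algebra.TensorProduct.map_tmul, hψ]; rfl
  letI : Algebra (K ⊗[A] B) ((B ⊗[A] B) ⊗[B] L) := θ.toAlgebra
  haveI : Module.Flat (K ⊗[A] B) ((B ⊗[A] B) ⊗[B] L) := hj.comp (RingHom.Flat.of_bijective hbij)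
  let E : ((B ⊗[A] B) ⊗[B] L) ⊗[B ⊗[A] B] B ≃+ L := (PDLib.fibEquiv L B).trans (TensorProduct.rid B L).toAddEquiv
  have hE : ∀ (p : B ⊗[A] B) (l : L) (x : B), E ((p ⊗ₜ[B] l) ⊗ₜ x) = algebraMap B L (p • x) * l := fun p l x => by
    show TensorProduct.rid B L (PDLib.fibEquiv L B ((p ⊗ₜ[B] l) ⊗ₜ x)) = _
    rw [PDLib.fibEquiv_tmul, TensorProduct.rid_tmul, Algebra.smul_def]
  refine FD_transfer n hbc E fun c z => ?_
  show E (θ c • z) = c • E z
  induction c using TensorProduct.induction_on with
  | zero => rw [map_zero θ, show (0 : (B ⊗[A] B) ⊗[B] L) • z = 0 from zero_smul ((B ⊗[A] B) ⊗[B] L) z, map_zero E, zero_smul (K ⊗[A] B)]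
  | add a b ha hb => rw [map_add, add_smul, map_add, ha, hb, add_smul]
  | tmul k b =>
    induction z using TensorProduct.induction_on with
    | zero => simp
    | add a a' ha hb => rw [smul_add, map_add, map_add, ha, hb, smul_add]
    | tmul q x =>
      induction q using TensorProduct.induction_on with
      | zero => simp
      | add a a' ha hb => rw [TensorProduct.add_tmul, smul_add, map_add, map_add, ha, hb, smul_add]
      | tmul p l =>
        rw [hθ, TensorProduct.smul_tmul', smul_eq_mul, Algebra.TensorProduct.tmul_mul_tmul, hE, hE,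
          Algebra.smul_def (k ⊗ₜ[A] b), hπ, mul_smul, Algebra.smul_def ((1 : B) ⊗ₜ[A] b) (p • x), hmul, one_mul,
          map_mul]
        ring

/-- Regularity of field-valued fibres. -/
theorem isRegularRing_fibre {A B : Type u} [CommRing A] [CommRing B] [Algebra A B] [Module.Flat A B]
    [Algebra (B ⊗[A] B) B] (hmul : ∀ x y : B, algebraMap (B ⊗[A] B) B (x ⊗ₜ[A] y) = x * y)
    {n : ℕ} (h : FD (B ⊗[A] B) n B) (K : Type u) [Field K] [Algebra A K] [IsNoetherianRing (K ⊗[A] B)] :
    IsRegularRing (K ⊗[A] B) := by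
  refine CommAlgDim.isRegularRing_of_isMaximal fun m hm => ?_
  let π : K ⊗[A] B →ₐ[A] (K ⊗[A] B) ⧸ m := Ideal.Quotient.mkₐ A m
  let gB : B →ₐ[A] (K ⊗[A] B) ⧸ m := π.comp Algebra.TensorProduct.includeRight
  let gK : K →ₐ[A] (K ⊗[A] B) ⧸ m := π.comp Algebra.TensorProduct.includeLeft
  letI : Algebra B ((K ⊗[A] B) ⧸ m) := gB.toRingHom.toAlgebra
  haveI : IsScalarTower A B ((K ⊗[A] B) ⧸ m) := IsScalarTower.of_algebraMap_eq fun a => (gB.commutes a).symm
  refine pdlt_residueField m ((FD_quotient hmul h K _ gK fun k b => ?_).pdlt)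
  show π (k ⊗ₜ b) = π (k ⊗ₜ 1) * π (1 ⊗ₜ b)
  rw [← map_mul, Algebra.TensorProduct.tmul_mul_tmul, mul_one, one_mul]

end DiagLib
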