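import Groth.Agent.DiagLib.Regular
import Groth.Agent.JacFSLib.GeomReg
import Mathlib.RingTheory.Smooth.Fiber

/-! Smoothness from a diagonal of finite tor dimension. -/

set_option autoImplicit false
set_option maxHeartbeats 1000000
universe u

open TensorProduct IsLocalRing

namespace DiagLib

theorem isGeometricallyRegular_of_algEquiv {k C S : Type u} [Field k] [CommRing C] [Algebra k C] [CommRing S]
    [Algebra k S] (e : C ≃ₐ[k] S) (h : CAlg.IsGeometricallyRegular k C) : CAlg.IsGeometricallyRegular k S :=
  fun k' _ _ hk' =>
    have := h k' hk'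
    IsRegularRing.of_ringEquiv (Algebra.TensorProduct.congr (AlgEquiv.refl (R := k) (A₁ := k')) e).toRingEquiv

/-- Fibres over fields are geometrically regular. -/
theorem isGeometricallyRegular_fibre {A B : Type u} [CommRing A] [CommRing B] [Algebra A B] [Module.Flat A B]
    [Algebra.EssFiniteType A B]
    [Algebra (B ⊗[A] B) B] (hmul : ∀ x y : B, algebraMap (B ⊗[A] B) B (x ⊗ₜ[A] y) = x * y)
    {n : ℕ} (h : FD (B ⊗[A] B) n B) (k : Type u) [Field k] [Algebra A k] :
    CAlg.IsGeometricallyRegular k (k ⊗[A] B) := by
  intro k' _ _ hk'
  letI : Algebra A k' := ((algebraMap k k').comp (algebraMap A k)).toAlgebra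
  haveI : IsScalarTower A k k' := IsScalarTower.of_algebraMap_eq fun _ => rfl
  haveI : IsNoetherianRing (k' ⊗[A] B) := Algebra.EssFiniteType.isNoetherianRing k' _
  haveI := isRegularRing_fibre hmul h k'
  exact IsRegularRing.of_ringEquiv (Algebra.TensorProduct.cancelBaseChange A k k' k' B).symm.toRingEquiv

/-- A local algebra essentially of finite type is the localisation of a finite type subalgebra. -/
theorem atPrime_subalgebra {R S : Type u} [CommRing R] [CommRing S] [Algebra R S] [IsLocalRing S]
    [Algebra.EssFiniteType R S] :
    IsLocalization.AtPrime S ((maximalIdeal S).comap (algebraMap (Algebra.EssFiniteType.subalgebra R S) S)) := by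
  have h : ((maximalIdeal S).comap (algebraMap (Algebra.EssFiniteType.subalgebra R S) S)).primeCompl =
      Algebra.EssFiniteType.submonoid R S := by
    ext x
    show x ∉ (maximalIdeal S).comap (algebraMap (Algebra.EssFiniteType.subalgebra R S) S) ↔
      IsUnit (algebraMap (Algebra.EssFiniteType.subalgebra R S) S x)
    rw [Ideal.mem_comap, mem_maximalIdeal, mem_nonunits_iff, not_not]
  show IsLocalization _ S
  rw [h]
  infer_instance

/-- Over a field, geometric regularity of an essentially finite type local algebra gives formal smoothness. -/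
theorem formallySmooth_of_isGeometricallyRegular {k F : Type u} [Field k] [CommRing F] [IsLocalRing F] [Algebra k F]
    [Algebra.EssFiniteType k F] (h : CAlg.IsGeometricallyRegular k F) : Algebra.FormallySmooth k F := by
  let C := Algebra.EssFiniteType.subalgebra k F
  let q := (maximalIdeal F).comap (algebraMap C F)
  haveI := atPrime_subalgebra (R := k) (S := F)
  let e : Localization.AtPrime q ≃ₐ[k] F :=
    (IsLocalization.algEquiv q.primeCompl (Localization.AtPrime q) F).restrictScalars k
  haveI : IsNoetherianRing (Localization.AtPrime q) :=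
    IsLocalization.isNoetherianRing q.primeCompl _ (Algebra.FiniteType.isNoetherianRing k C)
  obtain ⟨m, f₀, hf₀⟩ := Algebra.FiniteType.iff_quotient_mvPolynomial''.mp
    (inferInstance : Algebra.FiniteType k C)
  letI : Algebra (MvPolynomial (Fin m) k) C := f₀.toRingHom.toAlgebra
  haveI : IsScalarTower k (MvPolynomial (Fin m) k) C := IsScalarTower.of_algebraMap_eq fun a => (f₀.commutes a).symm
  haveI : Algebra.FormallySmooth k (Localization.AtPrime q) :=
    JacFSLib.formallySmooth_atPrime_of_adic (B := MvPolynomial (Fin m) k) hf₀ q
      (JacFSLib.adic_of_isGeometricallyRegular (isGeometricallyRegular_of_algEquiv e.symm h))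
  exact Algebra.FormallySmooth.of_equiv e

/-- The local form. -/
theorem formallySmooth_local {A B : Type u} [CommRing A] [CommRing B] [Algebra A B] [IsNoetherianRing A]
    [IsLocalRing A] [IsLocalRing B] [IsLocalHom (algebraMap A B)] [Module.Flat A B] [Algebra.EssFiniteType A B]
    [Algebra (B ⊗[A] B) B] (hmul : ∀ x y : B, algebraMap (B ⊗[A] B) B (x ⊗ₜ[A] y) = x * y)
    {n : ℕ} (h : FD (B ⊗[A] B) n B) : Algebra.FormallySmooth A B := by
  have hsurj : Function.Surjective (Algebra.TensorProduct.includeRight : B →ₐ[A] ResidueField A ⊗[A] B) := fun z => by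
    induction z using TensorProduct.induction_on with
    | zero => exact ⟨0, map_zero _⟩
    | add a b ha hb =>
      obtain ⟨a, rfl⟩ := ha
      obtain ⟨b, rfl⟩ := hb
      exact ⟨a + b, map_add _ _ _⟩
    | tmul c b =>
      obtain ⟨c, rfl⟩ := residue_surjective c
      refine ⟨c • b, ?_⟩
      rw [Algebra.TensorProduct.includeRight_apply, ← smul_tmul, show c • (1 : ResidueField A) = residue A c from
        (Algebra.smul_def c 1).trans (mul_one _)]
  haveI : Nontrivial (ResidueField A ⊗[A] B) := by
    let K := ResidueField B
    let f : ResidueField A →ₐ[A] K :=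
      { ResidueField.map (algebraMap A B) with
        commutes' := fun a => by
          show ResidueField.map (algebraMap A B) (residue A a) = _
          rw [ResidueField.map_residue]; rfl }
    exact (Algebra.TensorProduct.lift f (IsScalarTower.toAlgHom A B K) fun _ _ => Commute.all _ _).toRingHom.domain_nontrivial
  haveI : IsLocalRing (ResidueField A ⊗[A] B) :=
    IsLocalRing.of_surjective' Algebra.TensorProduct.includeRight.toRingHom hsurj
  haveI : Algebra.FormallySmooth (ResidueField A) (ResidueField A ⊗[A] B) :=
    formallySmooth_of_isGeometricallyRegular (isGeometricallyRegular_fibre hmul h (ResidueField A))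
  haveI : Algebra.FinitePresentation A (Algebra.EssFiniteType.subalgebra A B) :=
    Algebra.FinitePresentation.of_finiteType.mp inferInstance
  exact Algebra.FormallySmooth.of_formallySmooth_residueField_tensor
    (P := Algebra.EssFiniteType.subalgebra A B) (Algebra.EssFiniteType.submonoid A B)

/-- The finite type form. -/
theorem smooth {A B : Type u} [CommRing A] [CommRing B] [Algebra A B] [IsNoetherianRing A]
    [Algebra.FiniteType A B] [Module.Flat A B]
    [Algebra (B ⊗[A] B) B] (hmul : ∀ x y : B, algebraMap (B ⊗[A] B) B (x ⊗ₜ[A] y) = x * y)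
    {n : ℕ} (h : FD (B ⊗[A] B) n B) : Algebra.Smooth A B := by
  haveI : Algebra.FinitePresentation A B := Algebra.FinitePresentation.of_finiteType.mp inferInstance
  refine Algebra.Smooth.of_formallySmooth_fiber fun I _ => ?_
  let F := I.Fiber B
  have hg : CAlg.IsGeometricallyRegular I.ResidueField F := isGeometricallyRegular_fibre hmul h I.ResidueField
  haveI : Algebra.FinitePresentation I.ResidueField F := inferInstance
  refine Algebra.smoothLocus_eq_univ_iff.1 (Set.eq_univ_iff_forall.2 fun q => ?_)
  exact formallySmooth_of_isGeometricallyRegular (F := Localization.AtPrime q.asIdeal)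
    (JacFSLib.isGeometricallyRegular_of_isLocalization q.asIdeal.primeCompl hg)

end DiagLib
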